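import Groth.Agent.NormDimOneLib.Alg
import Mathlib.RingTheory.DedekindDomain.AdicValuation
import Mathlib.RingTheory.KrullDimension.Field
import Mathlib.RingTheory.Valuation.ValuationSubring

/-!
# An element with a pole at every place over finitely many one-dimensional local rings
-/

set_option autoImplicit false
set_option linter.style.haveILetI false
universe u

namespace PoleGlobLib

variable {K : Type u} [Field K]

theorem not_mem_pow (V : ValuationSubring K) {b : K} (hb : b ∉ V) {m : ℕ} (hm : 0 < m) : b ^ m ∉ V := by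
  intro h
  rcases V.mem_or_inv_mem b with h1 | h1
  · exact hb h1
  · have : b = b ^ m * b⁻¹ ^ (m - 1) := by
      have hb0 : b ≠ 0 := fun e => hb (e ▸ V.zero_mem)
      rw [inv_pow, ← div_eq_mul_inv, eq_div_iff (pow_ne_zero _ hb0), ← pow_succ', Nat.sub_add_cancel hm]
    exact hb (this ▸ V.mul_mem _ _ h (pow_mem h1 _))

/-- A single element avoiding finitely many valuation rings. -/
theorem exists_notMem {ι : Type*} [Finite ι] (V : ι → ValuationSubring K) (R : Subring K)
    (h : ∀ i, ∃ a ∈ R, a ∉ V i) : ∃ g ∈ R, ∀ i, g ∉ V i := by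
  classical
  cases nonempty_fintype ι
  suffices ∀ s : Finset ι, ∃ g ∈ R, ∀ i ∈ s, g ∉ V i by
    obtain ⟨g, hg, hgi⟩ := this Finset.univ
    exact ⟨g, hg, fun i => hgi i (Finset.mem_univ i)⟩
  intro s
  induction s using Finset.induction with
  | empty => exact ⟨1, R.one_mem, fun i hi => absurd hi (Finset.notMem_empty i)⟩
  | insert j s _ ih =>
    obtain ⟨g, hg, hgs⟩ := ih
    obtain ⟨a, ha, hav⟩ := h j
    by_cases hgj : g ∉ V j
    · exact ⟨g, hg, fun i hi => (Finset.mem_insert.mp hi).elim (fun e => e ▸ hgj) (hgs i)⟩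
    -- exponents `m` for which `g + a ^ m` lies in one of the rings
    let bad : Set ℕ := {m | 0 < m ∧ ∃ i ∈ insert j s, g + a ^ m ∈ V i}
    suffices hbad : bad.Finite by
      obtain ⟨m, hm⟩ := (hbad.union (Set.finite_singleton 0)).exists_notMem
      simp only [Set.mem_union, Set.mem_singleton_iff, not_or] at hm
      exact ⟨g + a ^ m, R.add_mem hg (pow_mem ha m), fun i hi hmem => hm.1 ⟨Nat.pos_of_ne_zero hm.2, i, hi, hmem⟩⟩
    have hsub : bad ⊆ ⋃ i ∈ (insert j s : Finset ι), {m | 0 < m ∧ g + a ^ m ∈ V i} := by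
      rintro m ⟨hm, i, hi, hmem⟩
      exact Set.mem_biUnion (show i ∈ (↑(insert j s) : Set ι) from hi) ⟨hm, hmem⟩
    refine ((insert j s).finite_toSet.biUnion fun i hi => ?_).subset hsub
    refine Set.Subsingleton.finite fun m hm m' hm' => ?_
    by_contra hne
    wlog hlt : m' < m generalizing m m'
    · exact this m' hm' m hm (Ne.symm hne) (lt_of_le_of_ne (not_lt.1 hlt) hne)
    obtain ⟨hm, hmem⟩ := hm
    obtain ⟨hm', hmem'⟩ := hm'
    by_cases hai : a ∈ V i
    · rcases Finset.mem_insert.mp hi with rfl | his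
      · exact hav hai
      · refine hgs i his ?_
        simpa using (V i).toSubring.sub_mem hmem (pow_mem hai m)
    · have hd : a ^ m - a ^ m' ∈ V i := by
        have := (V i).toSubring.sub_mem hmem hmem'
        simpa using this
      have hinv : a⁻¹ ∈ V i := ((V i).mem_or_inv_mem a).resolve_left hai
      have ha0 : a ≠ 0 := fun e => hai (e ▸ (V i).zero_mem)
      have h2 : (a ^ m - a ^ m') * a⁻¹ ^ (m - 1) ∈ V i := (V i).mul_mem _ _ hd (pow_mem hinv _)
      have h3 : a ^ m' * a⁻¹ ^ (m - 1) ∈ V i := by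
        have : a ^ m' * a⁻¹ ^ (m - 1) = a⁻¹ ^ (m - 1 - m') := by
          rw [show m - 1 = m' + (m - 1 - m') by omega, pow_add, ← mul_assoc, ← mul_pow, mul_inv_cancel₀ ha0,
            one_pow, one_mul, show m' + (m - 1 - m') - m' = m - 1 - m' by omega]
        rw [this]
        exact pow_mem hinv _
      refine hai ?_
      have h4 : a = (a ^ m - a ^ m') * a⁻¹ ^ (m - 1) + a ^ m' * a⁻¹ ^ (m - 1) := by
        rw [← add_mul, sub_add_cancel, inv_pow, ← div_eq_mul_inv, eq_div_iff (pow_ne_zero _ ha0), ← pow_succ',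
          Nat.sub_add_cancel hm]
      exact h4 ▸ (V i).add_mem _ _ h2 h3

variable (O : Type u) [CommRing O] [IsDomain O] [IsNoetherianRing O] [IsLocalRing O] [Algebra O K] [IsFractionRing O K]
  (hdim : ringKrullDim O = 1)

include hdim in
/-- The places over a one-dimensional local ring. -/
theorem exists_places : ∃ (ι : Type u) (_ : Finite ι) (V : ι → ValuationSubring K),
    (∀ i, ∀ a : O, algebraMap O K a ∈ V i) ∧
    (∀ i, ∀ a ∈ IsLocalRing.maximalIdeal O, a ≠ 0 → (algebraMap O K a)⁻¹ ∉ V i) ∧
    ∀ g : K, g ≠ 0 → (∀ i, g ∉ V i) → ∃ n : ℕ, 0 < n ∧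
      ∃ a ∈ IsLocalRing.maximalIdeal O, algebraMap O K a = g⁻¹ ^ n := by
  classical
  haveI : Ring.KrullDimLE 1 O := Ring.krullDimLE_iff.2 hdim.le
  let B := integralClosure O K
  have hB : Function.Injective (algebraMap B K) := Subtype.val_injective
  haveI : IsFractionRing B K := integralClosure.isFractionRing_of_finite_extension (A := O) K K
  haveI : IsIntegrallyClosed B := integralClosure.isIntegrallyClosedOfFiniteExtension (R := O) K
  haveI : IsDedekindDomain B := NormDimOneLib.isDedekindDomain O K B hB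
  let P := IsDedekindDomain.HeightOneSpectrum B
  have hover : ∀ v : P, v.asIdeal.comap (algebraMap O B) = IsLocalRing.maximalIdeal O := fun v =>
    IsLocalRing.eq_maximalIdeal (Ideal.isMaximal_comap_of_isIntegral_of_isMaximal (R := O) v.asIdeal
      (hI := v.isPrime.isMaximal v.ne_bot))
  haveI : Finite P := by
    have := (NormDimOneLib.finite_primesOver O K B hB (IsLocalRing.maximalIdeal O)).to_subtype
    exact Finite.of_injective (fun v : P => (⟨v.asIdeal, v.isPrime, hover v⟩ :
      ↥{Q : Ideal B | Q.IsPrime ∧ Q.comap (algebraMap O B) = IsLocalRing.maximalIdeal O}))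
      fun v w e => IsDedekindDomain.HeightOneSpectrum.ext (congrArg Subtype.val e)
  have hval : ∀ (v : P) (a : O), v.valuation K (algebraMap O K a) ≤ 1 := fun v a => by
    rw [IsScalarTower.algebraMap_apply O B K]
    exact v.valuation_le_one _
  have hlt : ∀ (v : P) (a : O), a ∈ IsLocalRing.maximalIdeal O → v.valuation K (algebraMap O K a) < 1 := fun v a ha => by
    rw [IsScalarTower.algebraMap_apply O B K, v.valuation_lt_one_iff_mem]
    exact (hover v).ge ha
  refine ⟨P, inferInstance, fun v => (v.valuation K).valuationSubring, fun v a => hval v a, fun v a ha ha0 h => ?_,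
    fun g hg0 hg => ?_⟩
  · have h' : v.valuation K (algebraMap O K a)⁻¹ ≤ 1 := h
    rw [map_inv₀] at h'
    exact absurd (hlt v a ha) (not_lt.2 ((inv_le_one₀ (zero_lt_iff.2 ((Valuation.ne_zero_iff _).2
      (fun e => ha0 (IsFractionRing.injective O K (e.trans (map_zero _).symm)))))).1 h'))
  have hu : ∀ v : P, v.valuation K g⁻¹ < 1 := fun v => by
    rw [map_inv₀]
    exact inv_lt_one_of_one_lt₀ (not_le.1 (hg v))
  obtain ⟨u, hu'⟩ := IsDedekindDomain.HeightOneSpectrum.mem_integers_of_valuation_le_one (R := B) K g⁻¹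
    fun v => (hu v).le
  let C : Subalgebra O K := Algebra.adjoin O {g⁻¹}
  have hint : IsIntegral O g⁻¹ := hu' ▸ (IsIntegralClosure.isIntegral O K u).algebraMap
  haveI hCfin : Module.Finite O C := Algebra.finite_adjoin_of_finite_of_isIntegral (Set.finite_singleton _)
    (by simpa using hint)
  -- a conductor
  obtain ⟨s, hs⟩ := (Module.Finite.fg_top (R := O) (M := C))
  obtain ⟨⟨c, hc⟩, hcK⟩ := IsLocalization.exist_integer_multiples (nonZeroDivisors O) (S := K) s fun x => (x : K)
  have hcond : ∀ x : C, ∃ b : O, algebraMap O K b = c • (x : K) := by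
    intro x
    have hx : x ∈ Submodule.span O (s : Set C) := by rw [hs]; trivial
    induction hx using Submodule.span_induction with
    | mem y hy => exact hcK y hy
    | zero => exact ⟨0, by simp⟩
    | add y z _ _ hy hz =>
      obtain ⟨b, hb⟩ := hy; obtain ⟨b', hb'⟩ := hz
      exact ⟨b + b', by rw [map_add, hb, hb', ← smul_add]; rfl⟩
    | smul r y _ hy =>
      obtain ⟨b, hb⟩ := hy
      exact ⟨r * b, by rw [map_mul, hb, Subalgebra.coe_smul, smul_comm, Algebra.smul_def r]⟩
  let gC : C := ⟨g⁻¹, Algebra.subset_adjoin rfl⟩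
  let cC : C := algebraMap O C c
  have hrad : gC ∈ (Ideal.span {cC}).radical := by
    rw [Ideal.radical_eq_sInf, Submodule.mem_sInf]
    rintro (Q : Ideal C) ⟨hle, hQ⟩
    have hcQ : c ∈ Ideal.comap (algebraMap O C) Q := Ideal.mem_comap.2 (hle (Ideal.mem_span_singleton_self cC))
    have hne : Ideal.comap (algebraMap O C) Q ≠ ⊥ := fun e => nonZeroDivisors.ne_zero hc (by rw [e] at hcQ; exact hcQ)
    haveI : (Ideal.comap (algebraMap O C) Q).IsMaximal :=
      Ring.DimensionLEOne.maximalOfPrime hne (Ideal.IsPrime.comap _)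
    haveI : Q.IsMaximal := Ideal.isMaximal_of_isIntegral_of_isMaximal_comap (R := O) Q inferInstance
    have hCB : C ≤ B := Algebra.adjoin_le (Set.singleton_subset_iff.2 hint)
    let j : C →ₐ[O] B := Subalgebra.inclusion hCB
    letI := j.toRingHom.toAlgebra
    haveI : IsScalarTower O C B := IsScalarTower.of_algebraMap_eq fun x => (j.commutes x).symm
    haveI : Algebra.IsIntegral C B := ⟨fun x => (Algebra.IsIntegral.isIntegral (R := O) x).tower_top⟩
    obtain ⟨Q', hQ'1, hQ'2⟩ := Ideal.exists_ideal_over_maximal_of_isIntegral (S := B) Q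
      (by
        intro x hx
        rw [RingHom.mem_ker] at hx
        rw [show x = 0 from Subalgebra.inclusion_injective hCB (hx.trans (map_zero j).symm)]
        exact Q.zero_mem)
    have hQ'ne : Q' ≠ ⊥ := by
      rintro rfl
      refine hne ?_
      rw [← hQ'2, Ideal.comap_comap, ← IsScalarTower.algebraMap_eq]
      exact Ideal.comap_bot_of_injective _ (NormDimOneLib.injective_algebraMap O K B hB)
    let v : P := ⟨Q', hQ'1.isPrime, hQ'ne⟩
    rw [← hQ'2, Ideal.mem_comap]
    show algebraMap C B gC ∈ v.asIdeal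
    rw [← v.valuation_lt_one_iff_mem (K := K)]
    exact hu v
  obtain ⟨n, hn⟩ := hrad
  obtain ⟨d, hd⟩ := Ideal.mem_span_singleton'.1 hn
  obtain ⟨b, hb⟩ := hcond (d * gC)
  refine ⟨n + 1, n.succ_pos, b, ?_, ?_⟩
  · have hb' : algebraMap O K b = g⁻¹ ^ (n + 1) := by
      have := congrArg (Subtype.val : C → K) (congrArg (· * gC) hd)
      rw [hb, pow_succ, show g⁻¹ ^ n * g⁻¹ = (gC ^ n * gC : C).1 from rfl, ← this]
      show c • ((d : K) * gC) = (d : K) * algebraMap O K c * gC
      rw [Algebra.smul_def]; ring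
    by_contra hbm
    obtain ⟨w, hw⟩ := (not_not.mp hbm : IsUnit b)
    have hne : Nonempty P := by
      obtain ⟨a, ha, ha0⟩ : ∃ a ∈ IsLocalRing.maximalIdeal O, a ≠ 0 :=
        Submodule.exists_mem_ne_zero_of_ne_bot fun e => by
          have hf : IsField O := IsLocalRing.isField_iff_maximalIdeal_eq.2 e
          letI := hf.toField
          rw [ringKrullDim_eq_zero_of_field] at hdim
          exact zero_ne_one hdim
      obtain ⟨M, hM⟩ := Ideal.exists_maximal B
      exact ⟨⟨M, hM.isPrime, fun e => by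
        haveI : M.IsMaximal := hM
        have := Ideal.isMaximal_comap_of_isIntegral_of_isMaximal (R := O) M
        rw [e, Ideal.comap_bot_of_injective _ (NormDimOneLib.injective_algebraMap O K B hB)] at this
        exact ha0 (Ideal.mem_bot.1 ((IsLocalRing.eq_maximalIdeal this).ge ha))⟩⟩
    obtain ⟨v⟩ := hne
    have h1 := hval v (↑w⁻¹ : O)
    have h2 : v.valuation K (algebraMap O K b) < 1 := by
      rw [hb', map_pow]; exact pow_lt_one₀ zero_le (hu v) n.succ_ne_zero
    have : v.valuation K (algebraMap O K b) * v.valuation K (algebraMap O K (↑w⁻¹ : O)) = 1 := by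
      rw [← map_mul, ← map_mul, ← hw, Units.mul_inv, map_one, map_one]
    exact absurd this (ne_of_lt (lt_of_le_of_lt (mul_le_of_le_one_right' h1) h2))
  · have := congrArg (Subtype.val : C → K) (congrArg (· * gC) hd)
    rw [hb, pow_succ, show g⁻¹ ^ n * g⁻¹ = (gC ^ n * gC : C).1 from rfl, ← this]
    show c • ((d : K) * gC) = (d : K) * algebraMap O K c * gC
    rw [Algebra.smul_def]; ring

end PoleGlobLib
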