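import Groth.Agent.PoleGlobLib.Algebra
import Groth.Agent.DiscExtLib.Main
import Groth.Agent.MiscFlat6.AmpleGen
import Groth.Prelude.Def_Curv2
import Mathlib.AlgebraicGeometry.FunctionField

/-!
# Globally generated invertible modules cutting out an affine open with finite complement of codimension one
-/

set_option autoImplicit false
set_option linter.style.haveILetI false
universe u

open CategoryTheory CategoryTheory.Limits AlgebraicGeometry TopologicalSpace Opposite
open AmpleLib (res GenOn GenAt)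

noncomputable section

set_option maxHeartbeats 1000000

namespace PoleGlobLib

variable {X : Scheme.{u}} [IsIntegral X] {U : X.Opens}

theorem genericPoint_mem {V : X.Opens} {z : X} (h : z ∈ V) : genericPoint X ∈ V :=
  ((genericPoint_spec X).specializes trivial).mem_open V.2 h

/-- Points outside the open have no proper specializations among each other. -/
theorem discrete (hne : (U : Set X).Nonempty) (hfin : ((U : Set X)ᶜ).Finite)
    (hloc : ∀ x : X, x ∉ U → IsNoetherianRing (X.presheaf.stalk x) ∧ ringKrullDim (X.presheaf.stalk x) = 1) :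
    DiscreteTopology ↥((U : Set X)ᶜ) := by
  haveI := hfin.to_subtype
  haveI : T1Space ↥((U : Set X)ᶜ) := by
    rw [t1Space_iff_specializes_imp_eq]
    rintro ⟨y, hy⟩ ⟨x, hx⟩ h
    have h' : y ⤳ x := Topology.IsInducing.subtypeVal.specializes_iff.mpr h
    refine Subtype.ext (not_not.1 fun hne' => hy ?_)
    obtain ⟨W₀, hW₀, hxW, -⟩ := exists_isAffineOpen_mem_and_subset (x := x) (U := (⊤ : X.Opens)) trivial
    let W : X.affineOpens := ⟨W₀, hW₀⟩
    haveI := (hloc x hx).1
    have hyW : y ∈ W.1 := h'.mem_open W.1.2 hxW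
    have hgW : genericPoint X ∈ W.1 := genericPoint_mem hxW
    haveI : Nonempty W.1 := ⟨⟨x, hxW⟩⟩
    have hmin := (DiscExtLib.generizations W hxW (hloc x hx).2.le).2 y hyW h' hne'
    have hle := UFDExtLib.prm_le_of_specializes W hgW hyW ((genericPoint_spec X).specializes trivial)
    have heq : SDivLib.prm W hgW = SDivLib.prm W hyW :=
      le_antisymm hle (hmin.2 ⟨SDivLib.prm_isPrime W hgW, bot_le⟩ hle)
    rw [← UFDExtLib.eq_of_prm_eq W hgW hyW heq]
    obtain ⟨z, hz⟩ := hne
    exact genericPoint_mem hz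
  infer_instance

/-- Regular functions on an affine open are not all regular at a place centred outside it. -/
theorem exists_notMem_place [X.IsSeparated] (hU : IsAffineOpen U) (hgU : genericPoint X ∈ U) {x : X} (hx : x ∉ U)
    (V : ValuationSubring X.functionField)
    (h1 : ∀ a : X.presheaf.stalk x, algebraMap (X.presheaf.stalk x) X.functionField a ∈ V)
    (h2 : ∀ a ∈ IsLocalRing.maximalIdeal (X.presheaf.stalk x), a ≠ 0 →
      (algebraMap (X.presheaf.stalk x) X.functionField a)⁻¹ ∉ V) :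
    ∃ r : Γ(X, U), X.presheaf.germ U (genericPoint X) hgU r ∉ V := by
  by_contra hcon
  push Not at hcon
  let ρ : Γ(X, U) ⟶ CommRingCat.of V :=
    CommRingCat.ofHom ((X.presheaf.germ U (genericPoint X) hgU).hom.codRestrict V.toSubring hcon)
  let π : X.presheaf.stalk x ⟶ CommRingCat.of V :=
    CommRingCat.ofHom ((algebraMap (X.presheaf.stalk x) X.functionField).codRestrict V.toSubring h1)
  let j : CommRingCat.of V ⟶ X.functionField := CommRingCat.ofHom V.subtype
  haveI : IsLocalHom π.hom := ⟨fun a ha => by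
    by_contra hna
    obtain ⟨w, hw⟩ := ha
    have hw' : (w : V).1 = algebraMap (X.presheaf.stalk x) X.functionField a := congrArg Subtype.val hw
    have ha0 : a ≠ 0 := by
      rintro rfl
      exact w.ne_zero (hw.trans (map_zero π.hom))
    refine h2 a hna ha0 ?_
    rw [← hw', inv_eq_of_mul_eq_one_right (congrArg Subtype.val w.mul_inv)]
    exact SetLike.coe_mem _⟩
  haveI : IsDominant (Spec.map j) := by
    exact ⟨(PrimeSpectrum.denseRange_comap_iff_ker_le_nilRadical (f := j.hom)).2 (by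
      rw [(RingHom.injective_iff_ker_eq_bot _).1 (show Function.Injective j.hom from Subtype.val_injective)]
      exact bot_le)⟩
  have e : Spec.map ρ ≫ hU.fromSpec = Spec.map π ≫ X.fromSpecStalk x := by
    refine ext_of_isDominant_of_isSeparated (terminal.from X) (terminal.hom_ext _ _) (Spec.map j) ?_
    have e1 : ρ ≫ j = X.presheaf.germ U (genericPoint X) hgU := rfl
    have e2 : π ≫ j = X.presheaf.stalkSpecializes ((genericPoint_spec X).specializes trivial) := rfl
    rw [← Category.assoc, ← Spec.map_comp, e1, ← Category.assoc, ← Spec.map_comp, e2,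
      Scheme.SpecMap_stalkSpecializes_fromSpecStalk]
    exact IsAffineOpen.fromSpecStalk_eq_fromSpecStalk hU hgU
  let pt : Spec (CommRingCat.of V) := IsLocalRing.closedPoint (CommRingCat.of V)
  have hpt : (Spec.map π ≫ X.fromSpecStalk x) pt = x := by
    show X.fromSpecStalk x (Spec.map π (IsLocalRing.closedPoint (CommRingCat.of V))) = x
    rw [Spec_closedPoint]
    exact Scheme.fromSpecStalk_closedPoint
  refine hx ?_
  rw [← hpt, ← e, ← SetLike.mem_coe, ← hU.range_fromSpec]
  exact Set.mem_range_self _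

/-- A function with a pole at every place outside the open, with inverse vanishing there. -/
theorem exists_function [X.IsSeparated] (hU : IsAffineOpen U) (hgU : genericPoint X ∈ U)
    (hfin : ((U : Set X)ᶜ).Finite)
    (hloc : ∀ x : X, x ∉ U → IsNoetherianRing (X.presheaf.stalk x) ∧ ringKrullDim (X.presheaf.stalk x) = 1) :
    ∃ G : Γ(X, U), ∀ x : X, x ∉ U → ∃ a ∈ IsLocalRing.maximalIdeal (X.presheaf.stalk x),
      algebraMap (X.presheaf.stalk x) X.functionField a * X.presheaf.germ U (genericPoint X) hgU G = 1 := by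
  classical
  haveI : Finite {x : X // x ∉ U} := hfin.to_subtype
  have : ∀ x : {x : X // x ∉ U}, ∃ (ι : Type u) (_ : Finite ι) (V : ι → ValuationSubring X.functionField),
      (∀ i, ∀ a, algebraMap (X.presheaf.stalk x.1) X.functionField a ∈ V i) ∧
      (∀ i, ∀ a ∈ IsLocalRing.maximalIdeal (X.presheaf.stalk x.1), a ≠ 0 →
        (algebraMap (X.presheaf.stalk x.1) X.functionField a)⁻¹ ∉ V i) ∧
      ∀ g : X.functionField, g ≠ 0 → (∀ i, g ∉ V i) → ∃ n : ℕ, 0 < n ∧
        ∃ a ∈ IsLocalRing.maximalIdeal (X.presheaf.stalk x.1),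
          algebraMap (X.presheaf.stalk x.1) X.functionField a = g⁻¹ ^ n := fun x => by
    haveI := (hloc x.1 x.2).1
    exact exists_places (X.presheaf.stalk x.1) (hloc x.1 x.2).2
  choose ι hι V h1 h2 h3 using this
  let R : Subring X.functionField := (X.presheaf.germ U (genericPoint X) hgU).hom.range
  obtain ⟨g, hgR, hg⟩ := exists_notMem (fun p : (x : {x : X // x ∉ U}) × ι x => V p.1 p.2) R fun p => by
    obtain ⟨r, hr⟩ := exists_notMem_place hU hgU p.1.2 (V p.1 p.2) (h1 _ _) (h2 _ _)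
    exact ⟨_, ⟨r, rfl⟩, hr⟩
  obtain ⟨r, rfl⟩ := hgR
  by_cases hg0 : X.presheaf.germ U (genericPoint X) hgU r = 0
  · refine ⟨1, fun x hx => ?_⟩
    have hem : ∀ i : ι ⟨x, hx⟩, False := fun i => hg ⟨⟨x, hx⟩, i⟩ (by rw [hg0]; exact zero_mem _)
    haveI := (hloc x hx).1
    obtain ⟨n, -, a, ha, hae⟩ := h3 ⟨x, hx⟩ 1 one_ne_zero fun i => (hem i).elim
    refine ⟨a, ha, ?_⟩
    rw [hae, inv_one, one_pow, one_mul, map_one]
  choose n hn a ha hae using fun x : {x : X // x ∉ U} => h3 x _ hg0 fun i => hg ⟨x, i⟩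
  let := Fintype.ofFinite {x : X // x ∉ U}
  refine ⟨r ^ ∏ x, n x, fun x hx => ?_⟩
  obtain ⟨k, hk⟩ := Finset.dvd_prod_of_mem n (Finset.mem_univ (⟨x, hx⟩ : {x : X // x ∉ U}))
  have hk0 : k ≠ 0 := by
    rintro rfl
    rw [mul_zero] at hk
    exact Finset.prod_ne_zero_iff.2 (fun y _ => (hn y).ne') hk
  refine ⟨a ⟨x, hx⟩ ^ k, Ideal.pow_mem_of_mem _ (ha _) k (Nat.pos_of_ne_zero hk0), ?_⟩
  have hax := hae ⟨x, hx⟩
  dsimp only at hax
  rw [map_pow, map_pow, hax, hk, ← pow_mul, ← mul_pow]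
  rw [inv_mul_cancel₀ (show (X.presheaf.germ U (genericPoint X) hgU).hom r ≠ 0 from hg0), one_pow]

theorem exists_globallyGenerated [X.IsSeparated] (hU : IsAffineOpen U) (hne : (U : Set X).Nonempty)
    (hfin : ((U : Set X)ᶜ).Finite)
    (hloc : ∀ x : X, x ∉ U → IsNoetherianRing (X.presheaf.stalk x) ∧ ringKrullDim (X.presheaf.stalk x) = 1) :
    ∃ (L : X.Modules) (s : Coh.structureModule X ⟶ L), PicF.IsInvertible L ∧ Curv2.IsGloballyGenerated L ∧
      CohB1.genLocus L s = U := by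
  classical
  obtain ⟨z₀, hz₀⟩ := hne
  have hgU : genericPoint X ∈ U := genericPoint_mem hz₀
  haveI hdisc := discrete ⟨z₀, hz₀⟩ hfin hloc
  obtain ⟨G, hG⟩ := exists_function hU hgU hfin hloc
  let A := (Scheme.Modules.pushforward U.ι).obj (Coh.structureModule (U : Scheme.{u}))
  let σ : Γ(A, ⊤) := (1 : Γ((U : Scheme.{u}), U.ι ⁻¹ᵁ ⊤))
  have hσ : GenOn A (res A (le_top : U ≤ ⊤) σ) := by
    intro V hV
    have hb : Function.Bijective (U.ι.app V) := by
      haveI := U.ι.isIso_app V (hV.trans_eq (Scheme.Opens.opensRange_ι U).symm)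
      exact ConcreteCategory.bijective_of_isIso (U.ι.app V)
    have e : (fun r : Γ(X, V) => r • res A hV (res A (le_top : U ≤ ⊤) σ)) = fun r => U.ι.app V r := funext fun r => by
      rw [AmpleLib.res_res]
      refine (congrArg (fun t : Γ((U : Scheme.{u}), U.ι ⁻¹ᵁ V) => (U.ι.app V).hom r * t)
        (map_one ((U : Scheme.{u}).presheaf.map (homOfLE (U.ι.preimage_mono (le_top : V ≤ ⊤))).op).hom)).trans (mul_one _)
    rw [e]
    exact hb
  have : ∀ x : {x : X // x ∉ U}, ∃ (D : X.Opens) (φ : Γ(X, D)), x.1 ∈ D ∧ (∀ z ∈ D, z ∉ U → z = x.1) ∧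
      φ |_ (D ⊓ U) * G |_ (D ⊓ U) = 1 ∧ x.1 ∉ X.basicOpen φ := by
    rintro ⟨x, hx⟩
    obtain ⟨O, hO, hOx⟩ := isOpen_induced_iff.mp (isOpen_discrete ({⟨x, hx⟩} : Set ↥((U : Set X)ᶜ)))
    have hxO : x ∈ O := by
      have : (⟨x, hx⟩ : ↥((U : Set X)ᶜ)) ∈ Subtype.val ⁻¹' O := by rw [hOx]; rfl
      exact this
    obtain ⟨a, ha, hae⟩ := hG x hx
    obtain ⟨D₀, hxD₀, φ₀, hφ₀⟩ := TopCat.Presheaf.exists_germ_eq X.presheaf a
    let D : X.Opens := D₀ ⊓ ⟨O, hO⟩
    have hxD : x ∈ D := ⟨hxD₀, hxO⟩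
    refine ⟨D, φ₀ |_ D, hxD, fun z hz hzU => ?_, ?_, fun h => ?_⟩
    · have : (⟨z, hzU⟩ : ↥((U : Set X)ᶜ)) ∈ Subtype.val ⁻¹' O := hz.2
      rw [hOx] at this
      exact congrArg Subtype.val (Set.mem_singleton_iff.mp this)
    · have hgD : genericPoint X ∈ D ⊓ U := ⟨genericPoint_mem hxD, hgU⟩
      haveI : Nonempty (D ⊓ U : X.Opens) := ⟨⟨_, hgD⟩⟩
      refine germ_injective_of_isIntegral X (genericPoint X) hgD ?_
      rw [map_mul, map_one]
      simp only [TopCat.Presheaf.restrictOpen, TopCat.Presheaf.restrict, TopCat.Presheaf.germ_res_apply]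
      rw [← hae]
      refine congrArg (· * _) ?_
      rw [← hφ₀]
      exact (TopCat.Presheaf.germ_stalkSpecializes_apply X.presheaf hxD₀ _ φ₀).symm
    · rw [X.mem_basicOpen _ x hxD] at h
      refine (IsLocalRing.mem_maximalIdeal a).1 ha ?_
      rw [← hφ₀]
      simpa only [TopCat.Presheaf.restrictOpen, TopCat.Presheaf.restrict, TopCat.Presheaf.germ_res_apply] using h
  choose D φ hxD honly hφG hxφ using this
  let v : ∀ i, Γ(X, D i ⊓ U) := fun i => G |_ (D i ⊓ U)
  have hv : ∀ i, v i * X.presheaf.map (homOfLE (inf_le_left : D i ⊓ U ≤ D i)).op (φ i) = 1 :=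
    fun i => (mul_comm _ _).trans (hφG i)
  choose E hE using fun i => (UFDExtLib.res_push_bijective U (Coh.structureModule (U : Scheme.{u}))
    (inf_le_left : D i ⊓ U ≤ D i) le_rfl).2 (v i • res A le_top σ)
  have hgen : ∀ i (V : X.Opens) (_ : V ≤ U) (h : V ≤ D i),
      Function.Bijective fun r : Γ(X, V) => r • res A h (E i) := by
    intro i V hV h
    have e : (fun r : Γ(X, V) => r • res A h (E i)) =
        (fun r => r • res A hV (res A (le_top : U ≤ ⊤) σ)) ∘ fun r => r * X.presheaf.map (homOfLE (le_inf h hV)).op (v i) := funext fun r => by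
      simp only [Function.comp_apply]
      rw [← AmpleLib.res_res A (inf_le_left : D i ⊓ U ≤ D i) (le_inf h hV), hE i, AmpleLib.res_smul,
        AmpleLib.res_res, AmpleLib.res_res, smul_smul]
    rw [e]
    refine (hσ V hV).comp ((IsUnit.map (X.presheaf.map (homOfLE (le_inf h hV)).op).hom
      (IsUnit.of_mul_eq_one _ (hv i))).unit.mulRight.bijective)
  obtain ⟨L, p, ε, hL, hp, hε, hlift⟩ := DiscExtLib.exists_glue_module hgen
    (fun x => (em (x ∈ U)).imp id fun hx => ⟨⟨x, hx⟩, hxD _⟩)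
    (fun i j hij z hz => not_not.mp fun hzU => hij (Subtype.ext ((honly i z hz.1 hzU).symm.trans (honly j z hz.2 hzU))))
    (fun y hy => ⟨U, hy, le_rfl, _, hσ⟩)
  let c : ∀ i, Γ(X, ⊤ ⊓ D i) := fun i => X.presheaf.map (homOfLE inf_le_right).op (φ i)
  obtain ⟨t, ht, htc⟩ := hlift ⊤ σ c fun i => by
    refine (UFDExtLib.res_push_bijective U (Coh.structureModule (U : Scheme.{u}))
      (inf_le_left : ⊤ ⊓ D i ⊓ U ≤ ⊤ ⊓ D i) le_rfl).1 ?_
    show res A _ (res A inf_le_left σ) = res A _ (c i • res A inf_le_right (E i))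
    have hle : ⊤ ⊓ D i ⊓ U ≤ D i ⊓ U := inf_le_inf_right U inf_le_right
    rw [AmpleLib.res_smul, AmpleLib.res_res, AmpleLib.res_res, ← AmpleLib.res_res A (inf_le_left : D i ⊓ U ≤ D i) hle,
      hE i, AmpleLib.res_smul, AmpleLib.res_res, smul_smul]
    conv_lhs => rw [← one_smul Γ(X, ⊤ ⊓ D i ⊓ U) (res A _ σ)]
    refine congrArg₂ (· • ·) ?_ rfl
    rw [← map_one (X.presheaf.map (homOfLE hle).op).hom, ← hv i, map_mul, mul_comm]
    exact congrArg (· * _) ((AmpleLib.res_res (Coh.structureModule X) _ hle (φ i)).trans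
      (AmpleLib.res_res (Coh.structureModule X) _ _ (φ i)).symm)
  -- the second section, with coefficients one
  obtain ⟨σ', hσ'⟩ := (UFDExtLib.res_push_bijective U (Coh.structureModule (U : Scheme.{u}))
    (le_top : U ≤ ⊤) inf_le_right).2 (G • res A le_top σ)
  obtain ⟨t', -, htc'⟩ := hlift ⊤ σ' (fun i => (1 : Γ(X, ⊤ ⊓ D i))) fun i => by
    refine (UFDExtLib.res_push_bijective U (Coh.structureModule (U : Scheme.{u}))
      (inf_le_left : ⊤ ⊓ D i ⊓ U ≤ ⊤ ⊓ D i) le_rfl).1 ?_
    show res A _ (res A inf_le_left σ') = res A _ ((1 : Γ(X, ⊤ ⊓ D i)) • res A inf_le_right (E i))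
    have hle : ⊤ ⊓ D i ⊓ U ≤ D i ⊓ U := inf_le_inf_right U inf_le_right
    have hleU : ⊤ ⊓ D i ⊓ U ≤ U := inf_le_right
    rw [one_smul, AmpleLib.res_res, AmpleLib.res_res, ← AmpleLib.res_res A (le_top : U ≤ ⊤) hleU, hσ',
      ← AmpleLib.res_res A (inf_le_left : D i ⊓ U ≤ D i) hle, hE i, AmpleLib.res_smul, AmpleLib.res_smul,
      AmpleLib.res_res, AmpleLib.res_res]
    exact congrArg (· • _) (AmpleLib.res_res (Coh.structureModule X) inf_le_right hle G).symm
  have hgenU : ∀ z ∈ U, GenAt L t (show z ∈ (⊤ : X.Opens) from trivial) := fun z hz => by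
    refine (AmpleLib.genAt_res (le_top : U ≤ ⊤) t hz).mp ((DiscExtLib.genOn_of_bijective p hp ?_).genAt hz)
    rw [show p.app U (res L le_top t) = res A le_top σ from (QCohLib.app_map p _ t).trans (congrArg _ ht)]
    exact hσ
  refine ⟨L, QCohLib.unitHom L t, hL, MiscFlat6.isGloballyGenerated_of_genSections hL fun z => ?_,
    AmpleLib.genLocus_eq t U fun z => ?_⟩
  · by_cases hz : z ∈ U
    · exact ⟨t, hgenU z hz⟩
    · refine ⟨t', ?_⟩
      let i : {x : X // x ∉ U} := ⟨z, hz⟩
      have hz' : z ∈ ⊤ ⊓ D i := ⟨trivial, hxD i⟩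
      show GenAt L t' _
      rw [← AmpleLib.genAt_res (inf_le_left : ⊤ ⊓ D i ≤ ⊤) t' hz', htc' i, one_smul]
      exact ((hε i).1.res inf_le_right).genAt hz'
  · by_cases hz : z ∈ U
    · exact iff_of_true (hgenU z hz) hz
    · refine iff_of_false (fun h => ?_) hz
      let i : {x : X // x ∉ U} := ⟨z, hz⟩
      have hz' : z ∈ ⊤ ⊓ D i := ⟨trivial, hxD i⟩
      have h1 := (AmpleLib.genAt_res (inf_le_left : ⊤ ⊓ D i ≤ ⊤) t hz').mpr h
      rw [htc i, AmpleLib.genAt_smul_iff _ _ _ (((hε i).1.res inf_le_right).genAt hz')] at h1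
      rw [Scheme.basicOpen_res] at h1
      exact hxφ i h1.2

end PoleGlobLib
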